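import Groth.Prelude.Def_AlgSt
import Groth.Agent.FibCatRep.Cart

/-!
Invariance of prestacks and stacks under equivalence over the base.
-/

set_option autoImplicit false
set_option linter.style.haveILetI false
set_option backward.isDefEq.respectTransparency false
universe v u v₂ u₂ v₃ u₃ v₄ u₄

noncomputable section

namespace Groth.Agent.StkBasic

open CategoryTheory FibCat Groth.Agent.FibCatRep

variable {C : Type u} [Category.{v} C]
variable {𝒳 : BasedCategory.{v₂, u₂} C} {𝒴 : BasedCategory.{v₃, u₃} C}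

/-- Postcomposition with a functor over the base. -/
def post (A : BasedCategory.{v₄, u₄} C) (F : 𝒳 ⥤ᵇ 𝒴) : (A ⥤ᵇ 𝒳) ⥤ (A ⥤ᵇ 𝒴) where
  obj a := BasedFunctor.comp a F
  map α := BasedCategory.whiskerRight α F
  map_id a := by apply BasedNatTrans.homCategory.ext; ext x; exact F.map_id _
  map_comp α β := by apply BasedNatTrans.homCategory.ext; ext x; exact F.map_comp _ _

lemma isEquivalence_post (A : BasedCategory.{v₄, u₄} C) {F : 𝒳 ⥤ᵇ 𝒴} (hF : IsEquivOver F) :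
    (post A F).IsEquivalence := by
  obtain ⟨G, ⟨e₁⟩, ⟨e₂⟩⟩ := hF
  exact (CategoryTheory.Equivalence.mk (post A F) (post A G)
    (NatIso.ofComponents (fun a => ((Stk.restr a 𝒳).mapIso e₁).symm) (fun {a b} α => by
      apply BasedNatTrans.homCategory.ext
      ext x
      exact (e₁.inv.toNatTrans.naturality (α.toNatTrans.app x))))
    (NatIso.ofComponents (fun a => (Stk.restr a 𝒴).mapIso e₂) (fun {a b} α => by
      apply BasedNatTrans.homCategory.ext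
      ext x
      exact (e₂.hom.toNatTrans.naturality (α.toNatTrans.app x))))).isEquivalence_functor

/-- Restriction commutes with postcomposition. -/
def squareIso (F : 𝒳 ⥤ᵇ 𝒴) {U : C} (R : Sieve U) :
    post (overCat U) F ⋙ Stk.resSieve R 𝒴 ≅ Stk.resSieve R 𝒳 ⋙ post (Stk.sieveCat R) F :=
  NatIso.ofComponents (fun _ => Iso.refl _) (fun {a b} α => by
    simp only [Iso.refl_hom, Category.comp_id, Category.id_comp]
    apply BasedNatTrans.homCategory.ext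
    ext x
    rfl)

variable {F : 𝒳 ⥤ᵇ 𝒴} (hF : IsEquivOver F) {U : C} (R : Sieve U)
include hF

lemma exists_resSieve_iso :
    ∃ P : (overCat U ⥤ᵇ 𝒴) ⥤ (overCat U ⥤ᵇ 𝒳), P.IsEquivalence ∧
      Nonempty (P ⋙ Stk.resSieve R 𝒳 ⋙ post (Stk.sieveCat R) F ≅ Stk.resSieve R 𝒴) := by
  haveI := isEquivalence_post (overCat U) hF
  let E := (post (overCat U) F).asEquivalence
  exact ⟨E.inverse, inferInstance,
    ⟨(Functor.isoWhiskerLeft E.inverse (squareIso F R)).symm ≪≫ (Functor.associator _ _ _).symm ≪≫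
      Functor.isoWhiskerRight E.counitIso _ ≪≫ Functor.leftUnitor _⟩⟩

lemma isStackFor (h : Stk.IsStackFor R 𝒳) : Stk.IsStackFor R 𝒴 := by
  obtain ⟨P, hP, ⟨e⟩⟩ := exists_resSieve_iso hF R
  haveI := isEquivalence_post (Stk.sieveCat R) hF
  haveI : (Stk.resSieve R 𝒳).IsEquivalence := h
  exact Functor.isEquivalence_of_iso e

lemma isPrestackFor (h : Stk.IsPrestackFor R 𝒳) : Stk.IsPrestackFor R 𝒴 := by
  obtain ⟨P, hP, ⟨e⟩⟩ := exists_resSieve_iso hF R
  haveI := isEquivalence_post (Stk.sieveCat R) hF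
  haveI := h.1
  haveI := h.2
  exact ⟨Functor.Full.of_iso e, Functor.Faithful.of_iso e⟩

omit R in
lemma isFibGrpd (hX : IsFibGrpd 𝒳.p) : IsFibGrpd 𝒴.p := by
  obtain ⟨hFe, hdata⟩ := isEquivOver_data hF
  obtain ⟨G, ⟨e₁⟩, ⟨e₂⟩⟩ := hF
  haveI hGe : G.toFunctor.IsEquivalence :=
    (isEquivOver_data (F := G) ⟨F, ⟨e₂⟩, ⟨e₁⟩⟩).1
  refine isFibGrpd_mk (fun {x V} f => ?_) (fun {z y x} φ ψ g hg => ?_)
  · obtain ⟨ξ, e, hξ, he⟩ := hdata x
    obtain ⟨w, μ, hw, hμ⟩ := exists_lift hX (x := ξ) (f ≫ eqToHom (hξ.symm.trans (F.w_obj ξ)))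
    refine ⟨F.obj w, F.map μ ≫ e.hom, (F.w_obj w).trans hw, ?_⟩
    simp [map_map, hμ, he]
  · obtain ⟨χ₀, ⟨h1, h2⟩, hu⟩ := existsUnique_cart hX (G.map φ) (G.map ψ)
      (eqToHom (G.w_obj z) ≫ g ≫ eqToHom (G.w_obj y).symm) (by simp [map_map, reassoc_of% hg])
    refine ⟨G.toFunctor.preimage χ₀, ⟨?_, G.toFunctor.map_injective (by simp [h2])⟩, fun χ hχ => ?_⟩
    · have h3 := map_map G (G.toFunctor.preimage χ₀)
      rw [Functor.map_preimage, h1, cancel_epi, cancel_mono] at h3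
      exact h3.symm
    · refine G.toFunctor.map_injective (Eq.trans ?_ (G.toFunctor.map_preimage χ₀).symm)
      exact hu _ ⟨by rw [map_map, hχ.1], by rw [← Functor.map_comp, hχ.2]⟩

omit hF R in
theorem isStack_of_equiv {F : 𝒳 ⥤ᵇ 𝒴} (hF : IsEquivOver F) (J : GrothendieckTopology C)
    (h : Stk.IsStack J 𝒳) : Stk.IsStack J 𝒴 :=
  ⟨isFibGrpd hF h.1, fun _ R hR => isStackFor hF R (h.2 R hR)⟩

omit hF R in
theorem isPrestack_of_equiv {F : 𝒳 ⥤ᵇ 𝒴} (hF : IsEquivOver F) (J : GrothendieckTopology C)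
    (h : Stk.IsPrestack J 𝒳) : Stk.IsPrestack J 𝒴 :=
  ⟨isFibGrpd hF h.1, fun _ R hR => isPrestackFor hF R (h.2 R hR)⟩

omit hF R in
theorem exists_inverse {F : 𝒳 ⥤ᵇ 𝒴} (hF : IsEquivOver F) : ∃ G : 𝒴 ⥤ᵇ 𝒳, IsEquivOver G := by
  obtain ⟨G, h₁, h₂⟩ := hF
  exact ⟨G, F, h₂, h₁⟩

end Groth.Agent.StkBasic
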